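import Mathlib
import Cfsg.Agent.Base
import Cfsg.Agent.Lib.H81.ClassNum
import Cfsg.Agent.Lib.Core.Fitting
import Cfsg.Agent.Lib.Core.MinNormal
import Cfsg.Agent.Lib.Core.Frobenius
import Cfsg.Agent.Lib.Core.CoprimeNorm
import Cfsg.Agent.Lib.FF.EAGL

/-! Hereditary bounds for class numbers of solvable groups: definitions and the basic calculus. -/

set_option autoImplicit false
set_option linter.unusedSectionVars false

namespace H81.KR

open Subgroup Cfsg

universe u

/-- every subgroup has at most `n` conjugacy classes -/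
def KB (n : ℕ) (X : Type*) [Group X] : Prop := ∀ H : Subgroup X, Nat.card (ConjClasses H) ≤ n

section
variable {X Y : Type*} [Group X] [Group Y] {a b c : ℕ}

theorem card_cc_le_of_surjective [Finite X] (f : X →* Y) (hf : Function.Surjective f) :
    Nat.card (ConjClasses Y) ≤ Nat.card (ConjClasses X) :=
  Nat.card_le_card_of_surjective _ (ConjClasses.map_surjective hf)

theorem card_cc_le_card [Finite X] : Nat.card (ConjClasses X) ≤ Nat.card X :=
  Nat.card_le_card_of_surjective _ ConjClasses.mk_surjective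

theorem card_cc_of_comm (h : ∀ x y : X, x * y = y * x) : Nat.card (ConjClasses X) = Nat.card X :=
  (Nat.card_congr (Equiv.ofBijective ConjClasses.mk ⟨fun x y e => by
    obtain ⟨z, hz⟩ := isConj_iff.1 (ConjClasses.mk_eq_mk_iff_isConj.1 e)
    rw [← hz, h z x, mul_inv_cancel_right], ConjClasses.mk_surjective⟩)).symm

theorem KB.mono (h : KB a X) (hab : a ≤ b) : KB b X := fun H => (h H).trans hab

theorem KB.top [Finite X] (h : KB a X) : Nat.card (ConjClasses X) ≤ a :=
  (card_cc_le_of_surjective (⊤ : Subgroup X).subtype fun x => ⟨⟨x, mem_top x⟩, rfl⟩).trans (h ⊤)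

theorem KB.pos [Finite X] (h : KB a X) : 0 < a := card_conjClasses_pos.trans_le h.top

theorem kb_card [Finite X] : KB (Nat.card X) X :=
  fun H => card_cc_le_card.trans H.card_le_card_group

theorem kb_of_card_le [Finite X] (h : Nat.card X ≤ a) : KB a X := kb_card.mono h

theorem kb_one [Subsingleton X] : KB 1 X :=
  haveI := Finite.of_subsingleton (α := X)
  kb_of_card_le (Finite.card_le_one_iff_subsingleton.2 inferInstance)

theorem KB.of_injective [Finite X] (h : KB a X) (f : Y →* X) (hf : Function.Injective f) :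
    KB a Y := fun H =>
  (card_cc_le_of_surjective (H.equivMapOfInjective f hf).symm.toMonoidHom
    (H.equivMapOfInjective f hf).symm.surjective).trans (h _)

theorem KB.of_surjective [Finite X] (h : KB a X) (f : X →* Y) (hf : Function.Surjective f) :
    KB a Y := fun H =>
  (card_cc_le_of_surjective (f.subgroupComap H) (f.subgroupComap_surjective_of_surjective H hf)).trans
    (h _)

theorem KB.of_equiv [Finite X] (h : KB a X) (e : X ≃* Y) : KB a Y :=
  h.of_surjective e.toMonoidHom e.surjective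

theorem KB.sub [Finite X] (h : KB a X) (H : Subgroup X) : KB a H :=
  h.of_injective _ H.subtype_injective

theorem KB.of_le [Finite X] {H K : Subgroup X} (h : KB a K) (hle : H ≤ K) : KB a H :=
  h.of_injective _ (inclusion_injective hle)

/-- an abelian subgroup has order at most the bound -/
theorem KB.card_le (h : KB a X) {A : Subgroup X} (hA : ∀ x ∈ A, ∀ y ∈ A, x * y = y * x) :
    Nat.card A ≤ a :=
  (card_cc_of_comm fun x y : A => Subtype.ext (hA x x.2 y y.2)).ge.trans (h A)

theorem KB.ext [Finite X] [Finite Y] (f : X →* Y) (h1 : KB a f.ker) (h2 : KB b Y) :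
    KB (a * b) X := fun H => by
  let g := f.comp H.subtype
  refine (card_conjClasses_le_mul g.ker).trans (Nat.mul_le_mul ?_ ?_)
  · exact (h1.of_injective ((H.subtype.comp g.ker.subtype).codRestrict f.ker fun x => x.2)
      fun x y e => Subtype.ext (Subtype.ext (congrArg (Subtype.val : f.ker → X) e))).top
  · exact (h2.of_injective _ (QuotientGroup.kerLift_injective g)).top

theorem KB.ext' [Finite X] (N : Subgroup X) [N.Normal] (h1 : KB a N) (h2 : KB b (X ⧸ N)) :
    KB (a * b) X :=
  KB.ext (QuotientGroup.mk' N) (h1.of_le (QuotientGroup.ker_mk' N).le) h2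

theorem KB.quot_mono [Finite X] {M N : Subgroup X} [M.Normal] [N.Normal] (h : KB a (X ⧸ M))
    (hle : M ≤ N) : KB a (X ⧸ N) :=
  h.of_surjective (QuotientGroup.map M N (MonoidHom.id X) hle) fun y => by
    obtain ⟨x, rfl⟩ := QuotientGroup.mk_surjective y
    exact ⟨x, rfl⟩

/-- `X / ker f` embeds into the target -/
theorem KB.quot_of_ker_le [Finite X] [Finite Y] (h : KB a Y) (f : X →* Y) {N : Subgroup X}
    [N.Normal] (hle : f.ker ≤ N) : KB a (X ⧸ N) :=
  (h.of_injective _ (QuotientGroup.kerLift_injective f)).quot_mono hle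

theorem KB.of_quot_ker [Finite X] {f : X →* Y} (h : KB a (X ⧸ f.ker)) : KB a f.range :=
  h.of_equiv (QuotientGroup.quotientKerEquivRange f)

theorem KB.comap [Finite X] [Finite Y] {N : Subgroup Y} [N.Normal] (h : KB a (Y ⧸ N))
    (f : X →* Y) : KB a (X ⧸ N.comap f) :=
  h.quot_of_ker_le ((QuotientGroup.mk' N).comp f) fun x hx =>
    (QuotientGroup.eq_one_iff (f x)).1 hx

theorem KB.prod [Finite X] [Finite Y] (h1 : KB a X) (h2 : KB b Y) : KB (a * b) (X × Y) :=
  KB.ext (MonoidHom.snd X Y) (h1.of_injective ((MonoidHom.fst X Y).comp (Subgroup.subtype _))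
    fun x y e => Subtype.ext (Prod.ext e (Eq.trans x.2 (Eq.symm y.2)))) h2

theorem KB.inf [Finite X] {M N : Subgroup X} [M.Normal] [N.Normal] (h1 : KB a (X ⧸ M))
    (h2 : KB b (X ⧸ N)) : KB (a * b) (X ⧸ (M ⊓ N)) :=
  (h1.prod h2).quot_of_ker_le ((QuotientGroup.mk' M).prod (QuotientGroup.mk' N)) fun x hx =>
    ⟨(QuotientGroup.eq_one_iff _).1 (congrArg Prod.fst hx),
      (QuotientGroup.eq_one_iff _).1 (congrArg Prod.snd hx)⟩

/-- finitely many normal subgroups; `N` contains their intersection -/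
theorem KB.finset [Finite X] {ι : Type*} (s : Finset ι) (M : ι → Subgroup X) [∀ i, (M i).Normal]
    (m : ι → ℕ) (h : ∀ i ∈ s, KB (m i) (X ⧸ M i)) (N : Subgroup X) [N.Normal]
    (hN : ∀ x, (∀ i ∈ s, x ∈ M i) → x ∈ N) : KB (∏ i ∈ s, m i) (X ⧸ N) := by
  classical
  induction s using Finset.induction_on generalizing N with
  | empty =>
    obtain rfl : N = ⊤ := eq_top_iff.2 fun x _ => hN x (by simp)
    haveI := QuotientGroup.subsingleton_quotient_top (G := X)
    simpa using kb_one
  | insert i s hi ih =>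
    haveI : (⨅ j ∈ s, M j).Normal := ⟨fun x hx g => by
      simp only [mem_iInf] at hx ⊢
      exact fun j hj => Normal.conj_mem inferInstance x (hx j hj) g⟩
    rw [Finset.prod_insert hi]
    refine ((h i (by simp)).inf (ih (fun j hj => h j (by simp [hj])) (⨅ j ∈ s, M j)
      fun x hx => by simpa only [mem_iInf] using hx)).quot_mono fun x hx => hN x fun j hj => ?_
    rcases Finset.mem_insert.1 hj with rfl | hj
    · exact hx.1
    · exact mem_iInf.1 (mem_iInf.1 (mem_inf.1 hx).2 j) hj

theorem KB.of_quot_bot [Finite X] (h : KB a (X ⧸ (⊥ : Subgroup X))) : KB a X :=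
  h.of_equiv QuotientGroup.quotientBot

theorem KB.tower [Finite X] (K M : Subgroup X) [K.Normal] [M.Normal]
    (h1 : KB a (K ⧸ M.subgroupOf K)) (h2 : KB b (X ⧸ K)) : KB (a * b) (X ⧸ M) := by
  refine KB.ext' (K.map (QuotientGroup.mk' M)) (h1.of_surjective (QuotientGroup.lift _
    ((QuotientGroup.mk' M).subgroupMap K) fun x hx => Subtype.ext
      ((QuotientGroup.eq_one_iff _).2 hx)) ?_) (h2.of_surjective (QuotientGroup.map _ _
        (QuotientGroup.mk' M) (le_comap_map _ _)) fun y => ?_)
  · rintro ⟨_, x, hx, rfl⟩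
    exact ⟨(⟨x, hx⟩ : K), rfl⟩
  · obtain ⟨y, rfl⟩ := QuotientGroup.mk_surjective y
    obtain ⟨x, rfl⟩ := QuotientGroup.mk_surjective y
    exact ⟨x, rfl⟩

/-- outside a small set the centralizers are small -/
theorem kb_of_cent [Finite X] (Z : Subgroup X) (ha : Nat.card Z ≤ a) (hc : 0 < c)
    (h : ∀ x, x ∉ Z → Nat.card (centralizer ({x} : Set X)) ≤ c) : KB (a + c - 1) X := fun H => by
  classical
  haveI := Fintype.ofFinite H
  have e := card_conjClasses_mul_card (G := H)
  have hH : 0 < Nat.card H := Nat.card_pos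
  let S : Finset H := Finset.univ.filter fun x => (x : X) ∈ Z
  have h1 : S.card ≤ a := by
    refine le_trans ?_ ha
    rw [← Fintype.card_coe, ← Nat.card_eq_fintype_card]
    exact Nat.card_le_card_of_injective (fun x : S => (⟨x.1, (Finset.mem_filter.1 x.2).2⟩ : Z))
      fun x y e => Subtype.ext (Subtype.ext (congrArg (Subtype.val : Z → X) e))
  have h2 : ∑ x ∈ S, Nat.card (centralizer ({x} : Set H)) ≤ a * Nat.card H :=
    (Finset.sum_le_card_nsmul _ _ _ fun x _ => Subgroup.card_le_card_group _).trans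
      (Nat.mul_le_mul_right _ h1)
  have h3 : ∑ x ∈ Sᶜ, Nat.card (centralizer ({x} : Set H)) ≤ Sᶜ.card * c :=
    Finset.sum_le_card_nsmul _ _ _ fun x hx => le_trans (Nat.card_le_card_of_injective
      (fun y : centralizer ({x} : Set H) => (⟨y.1, mem_centralizer_singleton_iff.2
        (congrArg Subtype.val (mem_centralizer_singleton_iff.1 y.2))⟩ : centralizer ({(x : X)} : Set X)))
      fun y z e => Subtype.ext (Subtype.ext
        (congrArg (Subtype.val : centralizer ({(x : X)} : Set X) → X) e))) (h x (by simpa [S] using hx))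
  have h4 : Sᶜ.card < Nat.card H := by
    rw [Nat.card_eq_fintype_card]
    exact Finset.card_lt_univ_of_notMem (x := 1) (by simp [S])
  have h5 : Nat.card (ConjClasses H) * Nat.card H < (a + c) * Nat.card H := by
    rw [e, ← Finset.sum_add_sum_compl S, add_mul, mul_comm c]
    exact add_lt_add_of_le_of_lt h2 (h3.trans_lt (Nat.mul_lt_mul_of_pos_right h4 hc))
  have := Nat.lt_of_mul_lt_mul_right h5
  omega

/-- an element not centralizing a normal `r`-subgroup has a class of size at least `r` -/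
theorem card_cent_mul_le [Finite X] {r : ℕ} [Fact r.Prime] {P : Subgroup X} (hP : IsPGroup r P)
    [P.Normal] {x : X} (hx : x ∉ centralizer (P : Set X)) :
    r * Nat.card (centralizer ({x} : Set X)) ≤ Nat.card X := by
  set C := centralizer ({x} : Set X)
  have h1 : C.subgroupOf P ≠ ⊤ := fun e => hx fun y hy =>
    mem_centralizer_singleton_iff.1 (subgroupOf_eq_top.1 e hy)
  obtain ⟨k, hk⟩ := hP.index (C.subgroupOf P)
  have h2 : r ≤ C.relIndex P := by
    rw [relIndex, hk]
    exact Nat.le_self_pow (fun e => h1 (index_eq_one.1 (by rw [hk, e, pow_zero]))) r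
  rw [← C.index_mul_card]
  exact Nat.mul_le_mul_right _ (h2.trans (by
    simpa using relIndex_le_of_le_right (H := C) (le_top (a := P)) (by simpa using C.index_ne_zero_of_finite)))

theorem index_centralizer_dvd [Finite X] (N : Subgroup X) [N.Normal] :
    (centralizer (N : Set X)).index ∣ Nat.card (MulAut N) := by
  have h : (MulAut.conjNormal (H := N)).ker = centralizer (N : Set X) := by
    ext g
    refine ⟨fun e x hx => ?_, fun e => MulEquiv.ext fun x => Subtype.ext ?_⟩
    · have := congrArg Subtype.val (MulEquiv.congr_fun e ⟨x, hx⟩)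
      exact (mul_inv_eq_iff_eq_mul.1 this).symm
    · exact mul_inv_eq_iff_eq_mul.2 (e x x.2).symm
  rw [← h, index_ker]
  exact card_subgroup_dvd_card _

theorem index_fitting_dvd [Finite X] (hs : Group.IsSolvable X) :
    (fittingSubgroup X).index ∣ Nat.card (MulAut (fittingSubgroup X)) :=
  (index_dvd_of_le H1.centralizer_fitting_le).trans (index_centralizer_dvd _)

end

/-- `X` is solvable and acts faithfully on the elementary abelian group `U` of order `p ^ n` -/
structure Fa (p n : ℕ) {X U : Type*} [Group X] [Group U] (φ : X →* MulAut U) : Prop where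
  comm : ∀ a b : U, a * b = b * a
  exp : ∀ a : U, a ^ p = 1
  card : Nat.card U = p ^ n
  inj : Function.Injective φ
  sol : Group.IsSolvable X

/-- ... and irreducibly -/
structure Ir (p n : ℕ) {X U : Type*} [Group X] [Group U] (φ : X →* MulAut U) : Prop
    extends Fa p n φ where
  pos : 0 < n
  irr : ∀ W : Subgroup U, (∀ x, ∀ w ∈ W, φ x w ∈ W) → W = ⊥ ∨ W = ⊤

section
variable {p n : ℕ} [hp : Fact p.Prime] {X U : Type*} [Group X] [Group U] [Finite X] [Finite U]
  {φ : X →* MulAut U}

theorem Fa.exists_GL (h : Fa p n φ) : ∃ f : X →* GL (Fin n) (ZMod p), Function.Injective f := by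
  obtain ⟨e⟩ := H23.nonempty_mulAut_equiv_GL ⟨⟨h.comm⟩⟩ h.exp h.card
  exact ⟨e.toMonoidHom.comp φ, e.injective.comp h.inj⟩

theorem card_GL_zmod (p n : ℕ) [Fact p.Prime] :
    Nat.card (GL (Fin n) (ZMod p)) = ∏ i : Fin n, (p ^ n - p ^ (i : ℕ)) := by
  rw [Matrix.card_GL_field, ZMod.card]

theorem Fa.card_dvd (h : Fa p n φ) : Nat.card X ∣ ∏ i : Fin n, (p ^ n - p ^ (i : ℕ)) := by
  obtain ⟨f, hf⟩ := h.exists_GL
  exact card_GL_zmod p n ▸ card_dvd_of_injective f hf

/-- the fixed points of a set of elements -/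
def fix (φ : X →* MulAut U) (N : Subgroup X) : Subgroup U where
  carrier := {u | ∀ x ∈ N, φ x u = u}
  one_mem' := fun _ _ => map_one _
  mul_mem' := fun ha hb x hx => by rw [map_mul, ha x hx, hb x hx]
  inv_mem' := fun ha x hx => by rw [map_inv, ha x hx]

theorem mem_fix {N : Subgroup X} {u : U} : u ∈ fix φ N ↔ ∀ x ∈ N, φ x u = u := Iff.rfl

theorem mem_fix_zpowers {x : X} {u : U} : u ∈ fix φ (zpowers x) ↔ φ x u = u :=
  ⟨fun h => h x (mem_zpowers x), fun h y hy => by
    have : zpowers x ≤ (MulAction.stabilizer (MulAut U) u).comap φ := zpowers_le_of_mem h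
    exact this hy⟩

theorem map_mem_fix {N : Subgroup X} {g : X} (hg : g ∈ normalizer (N : Set X)) {u : U}
    (hu : u ∈ fix φ N) : φ g u ∈ fix φ N := fun x hx => by
  have := hu _ ((mem_normalizer_iff''.1 hg x).1 hx)
  rw [map_mul, map_mul, MulAut.mul_apply, MulAut.mul_apply, map_inv] at this
  simpa using congrArg (φ g) this

/-- orbit counting on an invariant subgroup -/
theorem card_modEq_fix {r : ℕ} [Fact r.Prime] {P : Subgroup X} (hP : IsPGroup r P) (W : Subgroup U)
    (hW : ∀ x ∈ P, ∀ w ∈ W, φ x w ∈ W) :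
    Nat.card W ≡ Nat.card (W ⊓ fix φ P : Subgroup U) [MOD r] := by
  letI : MulAction P W :=
    { smul := fun x w => ⟨φ x w, hW x x.2 w w.2⟩
      one_smul := fun w => Subtype.ext (by change φ 1 w = w; simp)
      mul_smul := fun x y w => Subtype.ext (by change φ (x * y) w = φ x (φ y w); simp) }
  rw [← Nat.card_congr (⟨fun w => ⟨w.1.1, w.1.2, fun x hx => congrArg Subtype.val (w.2 ⟨x, hx⟩)⟩,
    fun w => ⟨⟨w.1, w.2.1⟩, fun x => Subtype.ext (w.2.2 x x.2)⟩, fun _ => rfl, fun _ => rfl⟩ :
    MulAction.fixedPoints P W ≃ (W ⊓ fix φ P : Subgroup U))]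
  exact hP.card_modEq_card_fixedPoints W

theorem Ir.fix_eq_bot (h : Ir p n φ) {N : Subgroup X} [N.Normal] (hN : N ≠ ⊥) : fix φ N = ⊥ :=
  (h.irr _ fun x _ hw => map_mem_fix (le_normalizer_of_normal (mem_top x)) hw).resolve_right
    fun e => hN (eq_bot_iff.2 fun x hx => h.inj (by
      ext u
      simpa using eq_top_iff.1 e (mem_top u) x hx))

theorem Ir.dvd_sub_one (h : Ir p n φ) {r : ℕ} [Fact r.Prime] {P : Subgroup X} [P.Normal]
    (hP : IsPGroup r P) (h1 : P ≠ ⊥) : r ∣ p ^ n - 1 := by
  have := card_modEq_fix (φ := φ) hP ⊤ fun _ _ _ _ => mem_top _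
  rw [h.fix_eq_bot h1, inf_bot_eq, card_bot, card_top, h.card] at this
  exact (Nat.modEq_iff_dvd' (Nat.one_le_pow _ _ hp.out.pos)).1 this.symm

theorem Ir.pCore_eq_bot (h : Ir p n φ) : pCore p X = ⊥ := by
  by_contra e
  have h1 := h.dvd_sub_one (H1.isPGroup_pCore (p := p) (G := X)) e
  have h2 := (Nat.dvd_sub_iff_right (Nat.one_le_pow _ _ hp.out.pos) (dvd_pow_self p h.pos.ne')).1 h1
  exact hp.out.one_lt.ne' (Nat.dvd_one.1 h2)

theorem pCore_ne_bot_of_dvd_fitting {r : ℕ} [Fact r.Prime]
    (h : r ∣ Nat.card (fittingSubgroup X)) : pCore r X ≠ ⊥ := fun e => by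
  obtain ⟨x, hx⟩ := exists_prime_orderOf_dvd_card' r h
  have h1 : zpowers (x : X) ≤ pCore r X := H1.le_pCore_of_le_fitting
    (IsPGroup.of_card (n := 1) (by rw [Nat.card_zpowers, Subgroup.orderOf_coe, hx, pow_one]))
    (zpowers_le_of_mem x.2)
  have h2 : x = 1 := Subtype.ext (mem_bot.1 (e ▸ h1 (mem_zpowers _)))
  rw [h2, orderOf_one] at hx
  exact (Fact.out : r.Prime).one_lt.ne hx

theorem Ir.dvd_of_dvd_fitting (h : Ir p n φ) {r : ℕ} (hr : r.Prime)
    (h1 : r ∣ Nat.card (fittingSubgroup X)) : r ∣ p ^ n - 1 :=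
  haveI := Fact.mk hr
  h.dvd_sub_one H1.isPGroup_pCore (pCore_ne_bot_of_dvd_fitting h1)

theorem Ir.not_dvd_fitting (h : Ir p n φ) : ¬ p ∣ Nat.card (fittingSubgroup X) :=
  fun e => pCore_ne_bot_of_dvd_fitting e h.pCore_eq_bot

end

section
variable {k V G : Type*} [Field k] [AddCommGroup V] [Module k V] [Group G]

/-- no proper nonzero invariant subspace -/
def IrrRep (ρ : Representation k G V) : Prop :=
  ∀ W : Submodule k V, (∀ g, ∀ w ∈ W, ρ g w ∈ W) → W = ⊥ ∨ W = ⊤

/-- a term of the lower central series of `M` acts unipotently -/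
def UN (ρ : Representation k G V) (M : Subgroup G) : Prop :=
  ∃ c : ℕ, ∀ g ∈ M.lowerCentralSeries c, IsNilpotent (ρ g - 1)

end

/-- the bound for solvable linear groups of degree `n` over algebraically closed fields -/
def BS (n : ℕ) : Prop :=
  ∀ (k : Type) [Field k] [IsAlgClosed k] (V : Type) [AddCommGroup V] [Module k V]
    [FiniteDimensional k V], Module.finrank k V = n → ∀ (G : Type u) [Group G] [Finite G],
    Group.IsSolvable G → ∀ ρ : Representation k G V,
    ∃ (M : Subgroup G) (_ : M.Normal), UN ρ M ∧ KB (3 ^ (n - 1)) (G ⧸ M)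

end H81.KR
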